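import Cfsg.Agent.H806.PQ.Ru
import Cfsg.Agent.H319.PQ.Cosets_m3
import Cfsg.Agent.H868.Dl.RuCls
import Cfsg.Agent.H300.Ru.Theta
import Cfsg.Agent.H714.S8.AdjA_m3
import Cfsg.Agent.Prune
set_option linter.all false
prune_inst 0x7f00000000000000000000000000000000000000000000000000000000000000000000000000000000000000000000000000000000000000000000000000000000000000000000000000000000000000003fffffffffffffffffffffffffffbeffbdffffffff
open scoped Cfsg.Agent.FastGrp

-- part: H806/SB/Ru
section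
/-!
# S4884, the Rudvalis group, `q ≠ 3` (helper806)

All odd degree characters are in the principal 2-block (`|C(x)| = 16` for an element of order 16); 783 is in the
principal blocks for 5 and 7.
-/

set_option autoImplicit false
set_option maxRecDepth 100000

open Cfsg Cfsg.Agent

namespace Cfsg.Agent.H806.SB.Ru

open Subgroup Cfsg.Agent.H317.PQ Cfsg.Agent.H635.SB Cfsg.Agent.H709.PB Cfsg.Agent.H642.PQ
open Cfsg.Agent.SporadicB Cfsg.Agent.RuD.Letters Cfsg.Agent.SporRec.TCUpperCert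

theorem card_H : Nat.card RuOrder.H = 145926144000 := RuOrder.card_H

theorem finite_H : Finite RuOrder.H := CpAutRuFive.finite_H

/-- the centraliser of an element of order 16 -/
theorem card16 : Nat.card (centralizer ({wprod ml H868.Dl.RuCls.w16} : Set RuOrder.H)) = 2 ^ 4 := by
  have := finite_H
  have h1 := H868.Dl.RuCls.card16
  have h2 : 16 ∣ Nat.card (centralizer ({wprod ml H868.Dl.RuCls.w16} : Set RuOrder.H)) := by
    have h3 : (wprod ml H868.Dl.RuCls.w16 : RuOrder.H) ∈ centralizer ({wprod ml H868.Dl.RuCls.w16} : Set RuOrder.H) :=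
      mem_centralizer_singleton_iff.2 rfl
    rw [← H868.Dl.RuCls.order16, ← Subgroup.orderOf_mk _ h3]
    exact orderOf_dvd_natCard _
  have h3 : 0 < Nat.card (centralizer ({wprod ml H868.Dl.RuCls.w16} : Set RuOrder.H)) := Nat.card_pos
  omega

theorem nb_two : NB 2 1 RuOrder.H := by
  have := finite_H
  have : Fact (Nat.Prime 2) := ⟨Nat.prime_two⟩
  exact NB.of_self (IsPGroup.of_card card16) ⟨4, H868.Dl.RuCls.order16⟩

theorem full_two (χ : IrrCharacter RuOrder.H) (h : ¬ 2 ∣ charDegree (χ : RuOrder.H → ℂ)) : χ ∈ B0 2 RuOrder.H := by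
  have := finite_H
  exact mem_full_elt Nat.prime_two card16 χ h

/-- **The rows of `Ru` for `q ≠ 3`.** -/
theorem row {q : ℕ} (hq : q.Prime) (hq2 : q ≠ 2) (hq3 : q ≠ 3) (hd : q ∣ Nat.card RuOrder.H) : RowQ q RuOrder.H := by
  have := finite_H
  obtain ⟨a, b, b2, -, -, b5, -, b7, -, -, -, hb⟩ := PQ.Ru.blocks
  rcases PQ.Ru.primes hq hd with rfl | rfl | rfl | rfl | rfl | rfl
  · exact absurd rfl hq2
  · exact absurd rfl hq3
  · exact RowQ.of_mem hb b2 b5 (by norm_num) (by norm_num) (by norm_num)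
  · exact RowQ.of_mem hb b2 b7 (by norm_num) (by norm_num) (by norm_num)
  · exact RowQ.of_exact hq nb_two hd (by rw [card_H]; norm_num)
  · exact RowQ.of_exact hq nb_two hd (by rw [card_H]; norm_num)

end Cfsg.Agent.H806.SB.Ru
end

-- part: H806/SB/RuThree
section
/-!
# The character of degree 65975 of the Rudvalis group; S4884 for `Ru` (helper806)

The table of the character of degree 65975 is an integral combination of helper300's generalized characters `v0 .. v38` and
of two adjoint Adams images: `w3` (number of cube roots) and `w2` (adjoint of squaring applied to `v11`).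
-/

set_option autoImplicit false
set_option maxRecDepth 100000

open Cfsg Cfsg.Agent

namespace Cfsg.Agent.H806.SB.Ru

open Cfsg.Agent.SporadicB.RuOrder Cfsg.Agent.H300.Cls Cfsg.Agent.H300.Ru Cfsg.Agent.H635.SB

/-- the sizes of the families -/
def sz : List ℕ := [1, 1252800, 593775, 67558400, 142506000, 285012000, 38001600, 19000800, 486420480, 145926144, 3040128000, 5211648000, 4560192000, 2280096000, 1520064000, 7296307200, 3648153600, 12160512000, 6080256000, 2806272000, 15634944000, 9728409600, 18240768000, 14592614400, 7296307200, 12160512000, 8418816000, 10063872000]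

theorem fam_card [Fintype H] (i : ℕ) : (Finset.univ.filter fun g : H => fam g = i).card = sz.getD i 0 := by
  classical
  by_cases hi : i < 28
  · have h1 := sum_classes R nonconj cover (fun g : H => if fam g = i then 1 else 0) (fun x y h => by
      rw [fam_conj h])
    rw [Finset.card_filter, h1]
    have h2 : ∀ j : Fin 36, Nat.card {u : H // IsConj (R j) u} • (if fam (R j) = i then 1 else 0) =
        (145926144000 / (fm (rp j).i).c) * (if (rp j).i = i then 1 else 0) := by
      intro j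
      rw [card_cls, fam_R, smul_eq_mul]
    rw [Finset.sum_congr rfl fun j _ => h2 j]
    have h3 : ∀ i : Fin 28, ∑ j : Fin 36, (145926144000 / (fm (rp j).i).c) * (if (rp j).i = i then 1 else 0) =
        sz.getD i 0 := by decide +kernel
    exact h3 ⟨i, hi⟩
  · have h1 : (Finset.univ.filter fun g : H => fam g = i) = ∅ := by
      rw [Finset.filter_eq_empty_iff]
      intro g _ h
      exact hi (h ▸ fam_lt g)
    rw [h1, Finset.card_empty, List.getD_eq_default]
    exact not_lt.1 hi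

/-- exponents prime to the order -/
def ms : List ℕ := [1, 11, 17, 19, 23, 31, 37, 41, 43, 47, 53, 59, 61, 67, 71, 73, 79, 83, 89, 97, 101, 103, 107, 109, 113,
  127, 131, 137, 139, 149, 151, 157, 163, 167, 173, 179, 181, 191, 193, 197, 199, 121, 209, 187]

theorem ms_cop : ∀ m ∈ ms, Nat.Coprime 145926144000 m := by decide +kernel

theorem ms_ok : ∀ j j' : Fin 36, (rp j).i = (rp j').i →
    ∃ m ∈ ms, ((rp j).k * m) % (fm (rp j).i).n = (rp j').k % (fm (rp j).i).n := by decide +kernel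

theorem fam_gal (y y' : H) (h : fam y = fam y') : ∃ m, (Nat.card H).Coprime m ∧ IsConj (y ^ m) y' := by
  obtain ⟨j, hj⟩ := cover y
  obtain ⟨j', hj'⟩ := cover y'
  rw [fam_eq hj, fam_eq hj'] at h
  obtain ⟨m, hm, hk⟩ := ms_ok j j' h
  refine ⟨m, by rw [Ru.card_H]; exact ms_cop m hm, ?_⟩
  have h1 : R j ^ m = R j' := by
    rw [R, R, ← h, ← pow_mul]
    have ho := order_X (rp_lt j)
    rw [← pow_mod_orderOf, ho, hk, ← ho, pow_mod_orderOf]
  exact ((hj.pow m).symm.trans (h1 ▸ hj'))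

theorem fx3 : ∀ j : Fin 36, fx (rp j).i ((rp j).k * 3) = fx (rp j).i 3 := by decide +kernel

theorem fixC3 (g : H) : fixC (g ^ 3) = fx (fam g) 3 := by
  obtain ⟨j, hj⟩ := cover g
  rw [fam_eq hj, ← fixC_conj (hj.pow 3), fixC_R, fx3]

theorem fam_cop (m : ℕ) (hm : (Nat.card H).Coprime m) (g : H) : fam (g ^ m) = fam g := by
  have := finite_H
  have hfix : ∀ x : H, fixC (x ^ m) = fixC x := by
    intro x
    apply fixC_congr
    · exact pow_mem (Subgroup.mem_zpowers _) _
    · have h2 : (orderOf x).Coprime m := Nat.Coprime.coprime_dvd_left (orderOf_dvd_natCard x) hm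
      obtain ⟨l, hl⟩ := exists_pow_eq_self_of_coprime h2.symm
      have h3 : (x ^ m) ^ l ∈ Subgroup.zpowers (x ^ m) := pow_mem (Subgroup.mem_zpowers _) l
      rwa [hl] at h3
  refine fam_of_key (fam_lt g) ?_ ?_ ?_
  · rw [Nat.Coprime.orderOf_pow (Nat.Coprime.coprime_dvd_left (orderOf_dvd_natCard g) hm), orderOf_fam]
  · rw [pow_one, hfix, fixC_fam]
  · rw [← pow_mul, mul_comm, pow_mul, hfix, fixC3]

/-- number of cube roots -/
def w3 : List ℤ := [67558401, 1, 5121, 0, 1, 1, 321, 321, 21, 1, 0, 1, 1, 1, 9, 1, 1, 0, 0, 1, 1, 0, 1, 1, 1, 0, 1, 1]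

theorem gw3 : GC fam w3 := by
  have := finite_H
  have := Fintype.ofFinite H
  exact Adj.GC.adj fam_lt fam_pow3 sz fam_card fam_gal fam_cop gc0 w3 (by decide +kernel)

/-- adjoint of squaring -/
def w2 : List ℤ := [45130176, 0, 5568, 54, 0, 32, 0, 160, 3276, 5176, 6, 0, 0, 0, 0, 0, 48, 0, -2, 0, 0, 9, 0, 0, 0, 0, 0, -1]

theorem gw2 : GC fam w2 := by
  have := finite_H
  have := Fintype.ofFinite H
  exact Adj.GC.adj fam_lt fam_pow2 sz fam_card fam_gal fam_cop gc11 w2 (by decide +kernel)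

/-- the table of the character of degree 65975 -/
def th : List ℤ := [65975, 91, 55, 14, -1, 3, 15, -5, 5, 0, -2, 0, 1, -1, -3, 1, 0, 0, -2, 0, 0, -1, 1, 0, 0, 0, 0, 0]

theorem gc_th : GC fam th := GC.lin fam_lt [
    (23, v0), (285, v1), (20, v2), (12, v3), (-428, v4), (2, v5), (-13, v6), (-127, v7), (16, v9), (15, v10),
    (-37, v11), (234, v12), (-56, v13), (154, v14), (-174, v15), (13, v16), (-197, v17), (-38, v18), (28, v19),
    (80, v20), (-13, v21), (-201, v22), (40, v23), (53, v24), (-19, v25), (12, v26), (8, v27), (-7, v28),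
    (-6, v29), (-7, v30), (-48, v31), (48, v32), (6, v33), (-8, v34), (-63, v35), (16, v36), (76, v37), (66, v38),
    (253, w3), (61, w2)]
    (List.forall_mem_cons.2 ⟨gc0, List.forall_mem_cons.2 ⟨gc1, List.forall_mem_cons.2 ⟨gc2,
    List.forall_mem_cons.2 ⟨gc3, List.forall_mem_cons.2 ⟨gc4, List.forall_mem_cons.2 ⟨gc5,
    List.forall_mem_cons.2 ⟨gc6, List.forall_mem_cons.2 ⟨gc7, List.forall_mem_cons.2 ⟨gc9,
    List.forall_mem_cons.2 ⟨gc10, List.forall_mem_cons.2 ⟨gc11, List.forall_mem_cons.2 ⟨gc12,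
    List.forall_mem_cons.2 ⟨gc13, List.forall_mem_cons.2 ⟨gc14, List.forall_mem_cons.2 ⟨gc15,
    List.forall_mem_cons.2 ⟨gc16, List.forall_mem_cons.2 ⟨gc17, List.forall_mem_cons.2 ⟨gc18,
    List.forall_mem_cons.2 ⟨gc19, List.forall_mem_cons.2 ⟨gc20, List.forall_mem_cons.2 ⟨gc21,
    List.forall_mem_cons.2 ⟨gc22, List.forall_mem_cons.2 ⟨gc23, List.forall_mem_cons.2 ⟨gc24,
    List.forall_mem_cons.2 ⟨gc25, List.forall_mem_cons.2 ⟨gc26, List.forall_mem_cons.2 ⟨gc27,
    List.forall_mem_cons.2 ⟨gc28, List.forall_mem_cons.2 ⟨gc29, List.forall_mem_cons.2 ⟨gc30,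
    List.forall_mem_cons.2 ⟨gc31, List.forall_mem_cons.2 ⟨gc32, List.forall_mem_cons.2 ⟨gc33,
    List.forall_mem_cons.2 ⟨gc34, List.forall_mem_cons.2 ⟨gc35, List.forall_mem_cons.2 ⟨gc36,
    List.forall_mem_cons.2 ⟨gc37, List.forall_mem_cons.2 ⟨gc38, List.forall_mem_cons.2 ⟨gw3,
    List.forall_mem_cons.2 ⟨gw2, fun _ h => absurd h List.not_mem_nil⟩⟩⟩⟩⟩⟩⟩⟩⟩⟩⟩⟩⟩⟩⟩⟩⟩⟩⟩⟩⟩⟩⟩⟩⟩⟩⟩⟩⟩⟩⟩⟩⟩⟩⟩⟩⟩⟩⟩⟩) th (by decide +kernel)

theorem irr_th : IsIrrCharacter H (tv fam th) := irr_of gc_th (by decide +kernel) (by decide +kernel)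

/-- **The irreducible character of degree 65975.** -/
theorem exists_65975 : ∃ χ : IrrCharacter H, charDegree (χ : H → ℂ) = 65975 := by
  refine ⟨⟨_, irr_th⟩, Cfsg.Agent.Blocks.Basic.charDegree_of_eq ?_⟩
  show tv fam th 1 = _
  rw [tv, fam_one]
  norm_num [th]

/-- **Row `(Ru, 3)` of S4884.** -/
theorem row_three : RowQ 3 H := by
  have := finite_H
  obtain ⟨χ, hχ⟩ := exists_65975
  exact RowQ.of_mem hχ (full_two χ (by rw [hχ]; norm_num)) (PQ.Ru.full_three χ (by rw [hχ]; norm_num)) (by norm_num)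
    (by norm_num) (by norm_num)

/-- **All rows of `Ru`.** -/
theorem row_all {q : ℕ} (hq : q.Prime) (hq2 : q ≠ 2) (hd : q ∣ Nat.card H) : RowQ q H := by
  by_cases h3 : q = 3
  · subst h3
    exact row_three
  · exact row hq hq2 h3 hd

universe u

/-- **S4884, the row of `Ru`.** -/
theorem row_ru {S : Type u} [Group S] [Finite S] {q : ℕ} (hq : q.Prime) (hq2 : q ≠ 2) (h : Spor.IsoRu S)
    (hd : q ∣ Nat.card S) : RowQ q S := by
  obtain ⟨e⟩ := h
  have := finite_H
  have e2 := e.trans RuLat.Main.equiv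
  refine RowQ.of_equiv e2.symm (row_all hq hq2 ?_)
  rwa [← Nat.card_congr e2.toEquiv]

end Cfsg.Agent.H806.SB.Ru
end

private theorem dce_4dee58fe4574 : _root_.True := by
  try have : _root_.True := by simp only [_root_.Cfsg.Agent.H806.SB.Ru.th.eq_1]
  exact _root_.True.intro
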